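import Mathlib.RingTheory.AdicCompletion.Basic
import Mathlib.RingTheory.AdicCompletion.Noetherian
import Mathlib.RingTheory.Filtration
import Mathlib.RingTheory.Artinian.Module
import Mathlib.RingTheory.Finiteness.Cardinality

/-!
# Chevalley's lemma for finite modules over complete Noetherian local rings
-/

set_option autoImplicit false
universe w w'

open IsLocalRing

namespace Groth.Agent.MultDesc

variable {C : Type w} [CommRing C] [IsLocalRing C] [IsNoetherianRing C] [IsAdicComplete (maximalIdeal C) C]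
  {P : Type w'} [AddCommGroup P] [Module C P] [Module.Finite C P]

omit [IsNoetherianRing C] in
theorem exists_limit (z : ℕ → P) (hz : ∀ j, z (j + 1) - z j ∈ (maximalIdeal C ^ j • ⊤ : Submodule C P)) :
    ∃ y : P, ∀ j, y - z j ∈ (maximalIdeal C ^ j • ⊤ : Submodule C P) := by
  classical
  obtain ⟨d, g, hg⟩ := Module.Finite.exists_fin (R := C) (M := P)
  have hmem : ∀ (n : ℕ) (x : P), x ∈ (maximalIdeal C ^ n • ⊤ : Submodule C P) →
      ∃ c : Fin d → C, (∀ i, c i ∈ maximalIdeal C ^ n) ∧ ∑ i, c i • g i = x := by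
    intro n x hx
    rw [← hg, Submodule.mem_ideal_smul_span_iff_exists_sum] at hx
    obtain ⟨a, ha, rfl⟩ := hx
    exact ⟨a, ha, (Finsupp.sum_fintype a (fun i c => c • g i) (fun i => zero_smul C _)).symm⟩
  obtain ⟨c₀, -, hc₀⟩ := hmem 0 (z 0) (by simp)
  choose δ hδ hδs using fun j => hmem j _ (hz j)
  let a : ℕ → Fin d → C := fun j => c₀ + ∑ l ∈ Finset.range j, δ l
  have haz : ∀ j, ∑ i, a j i • g i = z j := by
    intro j
    induction j with
    | zero => simpa [a] using hc₀
    | succ j ih =>
      have e : a (j + 1) = a j + δ j := by simp [a, Finset.sum_range_succ, add_assoc]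
      simp only [e, Pi.add_apply, add_smul, Finset.sum_add_distrib, ih, hδs]
      abel
  have hcau : ∀ i {m n : ℕ}, m ≤ n → a m i ≡ a n i [SMOD (maximalIdeal C ^ m • ⊤ : Submodule C C)] := by
    intro i m n hmn
    rw [SModEq.sub_mem, smul_eq_mul, Ideal.mul_top, ← neg_mem_iff, neg_sub]
    induction n, hmn using Nat.le_induction with
    | base => simp
    | succ n hn ih =>
      have e : a (n + 1) i = a n i + δ n i := by simp [a, Finset.sum_range_succ, add_assoc]
      rw [e, add_sub_right_comm]
      exact add_mem ih (Ideal.pow_le_pow_right hn (hδ n i))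
  choose y hy using fun i => IsPrecomplete.prec (I := maximalIdeal C) (f := fun n => a n i) inferInstance (hcau i)
  refine ⟨∑ i, y i • g i, fun j => ?_⟩
  rw [← haz j, ← Finset.sum_sub_distrib]
  refine Submodule.sum_mem _ fun i _ => ?_
  rw [← sub_smul]
  refine Submodule.smul_mem_smul ?_ trivial
  have := hy i j
  rw [SModEq.sub_mem, smul_eq_mul, Ideal.mul_top, ← neg_mem_iff, neg_sub] at this
  exact this

/-- A decreasing family of submodules with trivial intersection is eventually inside any power. -/
theorem chevalley (F : ℕ → Submodule C P) (hF : Antitone F) (h0 : ∀ x, (∀ n, x ∈ F n) → x = 0) (N : ℕ) :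
    ∃ n, F n ≤ maximalIdeal C ^ N • (⊤ : Submodule C P) := by
  classical
  let q : ℕ → Submodule C P := fun n => maximalIdeal C ^ n • ⊤
  have hq : Antitone q := fun m n h => Submodule.smul_mono_left (Ideal.pow_le_pow_right h)
  have hstab : ∀ M, ∃ n₀, ∀ n, n₀ ≤ n → F n₀ ≤ F n ⊔ q M := by
    intro M
    haveI : IsArtinian C (P ⧸ q M) := by
      haveI : IsNoetherianRing (C ⧸ maximalIdeal C ^ M) :=
        isNoetherianRing_of_surjective C _ (Ideal.Quotient.mk _) Ideal.Quotient.mk_surjective
      haveI : IsArtinianRing (C ⧸ maximalIdeal C ^ M) := by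
        rw [isArtinianRing_iff_krullDimLE_zero]
        exact Ring.KrullDimLE.mk₀ fun p hp => by
          haveI := hp
          have hle : maximalIdeal C ^ M ≤ p.comap (Ideal.Quotient.mk _) := by
            intro x hx
            simp [Ideal.Quotient.eq_zero_iff_mem.2 hx]
          have hm : maximalIdeal C ≤ p.comap (Ideal.Quotient.mk (maximalIdeal C ^ M)) :=
            Ideal.IsPrime.le_of_pow_le hle
          have := (maximalIdeal.isMaximal C).eq_of_le (Ideal.comap_ne_top _ hp.ne_top) hm
          haveI : (p.comap (Ideal.Quotient.mk (maximalIdeal C ^ M))).IsMaximal := this ▸ maximalIdeal.isMaximal C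
          rw [← Ideal.map_comap_of_surjective _ Ideal.Quotient.mk_surjective p]
          exact (Ideal.map_eq_top_or_isMaximal_of_surjective _ Ideal.Quotient.mk_surjective inferInstance).resolve_left
            fun t => hp.ne_top (by rw [← Ideal.map_comap_of_surjective _ Ideal.Quotient.mk_surjective p]; exact t)
      have ht : Module.IsTorsionBySet C (P ⧸ q M) (maximalIdeal C ^ M : Ideal C) := by
        rintro x ⟨c, hc⟩
        obtain ⟨x, rfl⟩ := Submodule.Quotient.mk_surjective _ x
        show c • Submodule.Quotient.mk x = 0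
        rw [← Submodule.Quotient.mk_smul, Submodule.Quotient.mk_eq_zero]
        exact Submodule.smul_mem_smul hc trivial
      letI := ht.module
      haveI : IsScalarTower C (C ⧸ maximalIdeal C ^ M) (P ⧸ q M) := ht.isScalarTower
      haveI : Module.Finite (C ⧸ maximalIdeal C ^ M) (P ⧸ q M) := Module.Finite.of_restrictScalars_finite C _ _
      exact isArtinian_of_surjective_algebraMap (R := C ⧸ maximalIdeal C ^ M) (S := C) Ideal.Quotient.mk_surjective
    obtain ⟨n₀, hn₀⟩ := IsArtinian.monotone_stabilizes (R := C) (M := P ⧸ q M)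
      ⟨fun n => OrderDual.toDual ((F n).map (q M).mkQ), fun m n h => Submodule.map_mono (hF h)⟩
    refine ⟨n₀, fun n hn => ?_⟩
    have h := congrArg OrderDual.ofDual (hn₀ n hn)
    intro x hx
    have hx'' : (q M).mkQ x ∈ (F n₀).map (q M).mkQ := Submodule.mem_map_of_mem hx
    have hx' : (q M).mkQ x ∈ (F n).map (q M).mkQ := (show (F n₀).map (q M).mkQ = (F n).map (q M).mkQ from h) ▸ hx''
    obtain ⟨y, hy, hyx⟩ := hx'
    rw [← sub_add_cancel x y, add_comm]
    exact Submodule.add_mem_sup hy ((Submodule.Quotient.eq _).1 hyx.symm)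
  choose n₀ hn₀ using hstab
  refine ⟨n₀ N, fun y hy => ?_⟩
  have hstep : ∀ (j : ℕ) (x : P), x ∈ F (n₀ (N + j)) ⊔ q (N + j) →
      ∃ x', x' ∈ F (n₀ (N + (j + 1))) ⊔ q (N + (j + 1)) ∧ x - x' ∈ q (N + j) := by
    intro j x hx
    obtain ⟨f, hf, r, hr, rfl⟩ := Submodule.mem_sup.1 hx
    obtain ⟨f', hf', r', hr', rfl⟩ :=
      Submodule.mem_sup.1 (hn₀ (N + j) (max (n₀ (N + j)) (n₀ (N + (j + 1)))) (le_max_left _ _) hf)
    exact ⟨f', Submodule.mem_sup_left (hF (le_max_right _ _) hf'), by
      rw [show f' + r' + r - f' = r' + r by abel]; exact add_mem hr' hr⟩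
  choose! nx hnx using hstep
  let z : ℕ → P := fun j => Nat.rec y (fun i x => nx i x) j
  have hz : ∀ j, z j ∈ F (n₀ (N + j)) ⊔ q (N + j) := by
    intro j
    induction j with
    | zero => exact Submodule.mem_sup_left hy
    | succ j ih => exact (hnx j _ ih).1
  obtain ⟨x, hx⟩ := exists_limit z fun j => by
    rw [← neg_sub]
    exact neg_mem (hq (show j ≤ N + j by omega) (hnx j _ (hz j)).2)
  have hxj : ∀ j, x - z j ∈ q (N + j) := by
    intro j
    have h1 : ∀ i, z j - z (j + i) ∈ q (N + j) := by
      intro i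
      induction i with
      | zero => simp
      | succ i ih =>
        rw [← sub_add_sub_cancel (z j) (z (j + i))]
        exact add_mem ih (hq (show N + j ≤ N + (j + i) by omega) (hnx (j + i) _ (hz (j + i))).2)
    have h2 : x - z (j + N) ∈ q (N + j) := hq (show N + j ≤ j + N by omega) (hx (j + N))
    rw [← sub_add_sub_cancel x (z (j + N)), ← neg_sub (z j)]
    exact add_mem h2 (neg_mem (h1 N))
  have hxall : ∀ n, x ∈ F n := by
    intro n
    rw [← Submodule.Quotient.mk_eq_zero]
    refine IsHausdorff.haus (I := maximalIdeal C) inferInstance _ fun M => ?_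
    rw [SModEq.zero]
    have hmem : x ∈ F n ⊔ q M := by
      have h3 : x ∈ F (n₀ (N + M)) ⊔ q (N + M) := by
        rw [← sub_add_cancel x (z M)]
        exact add_mem (Submodule.mem_sup_right (hxj M)) (hz M)
      have h4 : F (n₀ (N + M)) ≤ F n ⊔ q (N + M) :=
        (hn₀ (N + M) (max (n₀ (N + M)) n) (le_max_left _ _)).trans (sup_le_sup_right (hF (le_max_right _ _)) _)
      exact (sup_le_sup_left (hq (by omega)) _) ((sup_le h4 le_sup_right) h3)
    obtain ⟨f, hf, r, hr, rfl⟩ := Submodule.mem_sup.1 hmem
    rw [Submodule.Quotient.mk_add, (Submodule.Quotient.mk_eq_zero _).2 hf, zero_add]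
    have := Submodule.mem_map_of_mem (f := (F n).mkQ) hr
    rwa [Submodule.map_smul'', Submodule.map_top, Submodule.range_mkQ] at this
  have hx0 := h0 x hxall
  have h5 := hxj 0
  rw [hx0, zero_sub, neg_mem_iff] at h5
  exact h5

end Groth.Agent.MultDesc
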